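import Groth.Prelude.Def_Omega3
import Groth.Prelude.Def_CohB1

/-! Existence of a sheaf of differentials for an arbitrary morphism of schemes: sheafification of the
presheaf of Kähler differentials relative to the subpresheaf of rings generated by the base. -/

set_option autoImplicit false

universe u

open CategoryTheory CategoryTheory.Limits AlgebraicGeometry Opposite

noncomputable section

namespace Groth.Agent.OmegaGen18

open PresheafOfModules

variable {X Y : Scheme.{u}} (f : X ⟶ Y)

/-- The subring of `Γ(X, U)` generated by restrictions of functions on the base. -/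
def baseSubring (U : X.Opens) : Subring Γ(X, U) :=
  Subring.closure {x | ∃ (V : Y.Opens) (h : U ≤ f ⁻¹ᵁ V) (a : Γ(Y, V)), f.appLE V U h a = x}

theorem appLE_mem (V : Y.Opens) {U : X.Opens} (h : U ≤ f ⁻¹ᵁ V) (a : Γ(Y, V)) :
    f.appLE V U h a ∈ baseSubring f U :=
  Subring.subset_closure ⟨V, h, a, rfl⟩

theorem res_mem {U U' : X.Opensᵒᵖ} (i : U ⟶ U') (x : Γ(X, U.unop)) (hx : x ∈ baseSubring f U.unop) :
    X.presheaf.map i x ∈ baseSubring f U'.unop := by
  have hle : baseSubring f U.unop ≤ (baseSubring f U'.unop).comap (X.presheaf.map i).hom := by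
    refine Subring.closure_le.2 ?_
    rintro _ ⟨V, h, a, rfl⟩
    show X.presheaf.map i (f.appLE V U.unop h a) ∈ baseSubring f U'.unop
    rw [← ConcreteCategory.comp_apply, Scheme.Hom.appLE_map]
    exact appLE_mem f V _ a
  exact hle hx

/-- The presheaf of rings of functions coming from the base. -/
def basePresheaf : X.Opensᵒᵖ ⥤ CommRingCat.{u} where
  obj U := CommRingCat.of (baseSubring f U.unop)
  map {U U'} i := CommRingCat.ofHom
    ((X.presheaf.map i).hom.restrict (baseSubring f U.unop) (baseSubring f U'.unop) (res_mem f i))
  map_id U := by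
    refine CommRingCat.hom_ext (RingHom.ext fun x => Subtype.ext ?_)
    show X.presheaf.map (𝟙 U) x.1 = x.1
    rw [X.presheaf.map_id]
    rfl
  map_comp {U U' U''} i j := by
    refine CommRingCat.hom_ext (RingHom.ext fun x => Subtype.ext ?_)
    show X.presheaf.map (i ≫ j) x.1 = X.presheaf.map j (X.presheaf.map i x.1)
    rw [X.presheaf.map_comp]
    rfl

/-- The inclusion of the functions coming from the base. -/
def baseIncl : basePresheaf f ⟶ X.presheaf where
  app U := CommRingCat.ofHom (baseSubring f U.unop).subtype

/-- The presheaf of Kähler differentials. -/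
def preOmega : PresheafOfModules.{u} (X.presheaf ⋙ forget₂ _ _) :=
  DifferentialsConstruction.relativeDifferentials' (baseIncl f)

/-- The sheaf of differentials. -/
def omega : X.Modules := (CohB1.sheafifyMod X).obj (preOmega f)

/-- The unit into the sheaf of differentials. -/
def toOmega : preOmega f ⟶ (omega f).val :=
  PresheafOfModules.sheafificationHomEquiv (R := X.ringCatSheaf) (𝟙 X.ringCatSheaf.obj) (𝟙 (omega f))

/-- A derivation over the base gives a derivation relative to the presheaf of base functions. -/
def der' {F : X.Modules} (D : OmegaSh.Der f F) : PresheafOfModules.Derivation' F.val (baseIncl f) where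
  d {U} := D.d (X := U)
  d_mul {U} a b := D.d_mul a b
  d_map {U U'} i x := D.d_map i x
  d_app {U} a := by
    obtain ⟨a, ha⟩ := a
    show D.d (X := U) a = 0
    induction ha using Subring.closure_induction with
    | mem x hx =>
      obtain ⟨V, h, c, rfl⟩ := hx
      rw [Scheme.Hom.appLE, ConcreteCategory.comp_apply]
      refine (D.d_map (homOfLE h).op _).trans ?_
      rw [show D.d (X := op (f ⁻¹ᵁ V)) (f.app V c) = 0 from D.d_app (X := op V) c]
      exact map_zero _
    | zero => exact map_zero _
    | one => exact D.d_one U
    | add x y _ _ hx hy => rw [map_add, hx, hy, add_zero]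
    | neg x _ hx => rw [map_neg, hx, neg_zero]
    | mul x y _ _ hx hy => rw [D.d_mul, hx, hy, smul_zero, smul_zero, add_zero]

/-- The derivation into the sheaf of differentials. -/
def d : OmegaSh.Der f (omega f) where
  d {U} := ((DifferentialsConstruction.derivation' (baseIncl f)).postcomp (toOmega f)).d (X := U)
  d_mul {U} a b := ((DifferentialsConstruction.derivation' (baseIncl f)).postcomp (toOmega f)).d_mul a b
  d_map {U U'} i x := ((DifferentialsConstruction.derivation' (baseIncl f)).postcomp (toOmega f)).d_map i x
  d_app {V} c := by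
    have hmem : f.app V.unop c ∈ baseSubring f (f ⁻¹ᵁ V.unop) := by
      rw [Scheme.Hom.app_eq_appLE]
      exact appLE_mem f V.unop le_rfl c
    exact ((DifferentialsConstruction.derivation' (baseIncl f)).postcomp (toOmega f)).d_app
      (X := op (f ⁻¹ᵁ V.unop)) ⟨_, hmem⟩

theorem isUniversal : OmegaSh.IsUniversal (d f) := by
  intro F D
  let huniv := DifferentialsConstruction.isUniversal' (baseIncl f)
  let e := PresheafOfModules.sheafificationHomEquiv (R := X.ringCatSheaf) (𝟙 X.ringCatSheaf.obj)
    (P := preOmega f) (F := F)
  have key : ∀ α : omega f ⟶ F, (e α : preOmega f ⟶ F.val) = toOmega f ≫ α.val := fun α => by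
    refine (PresheafOfModules.toPresheaf _).map_injective ?_
    refine (PresheafOfModules.toPresheaf_map_sheafificationHomEquiv_def _ α).trans ?_
    refine Eq.trans ?_ (Functor.map_comp _ _ _).symm
    refine Eq.trans ?_ (congrArg (fun t => t ≫ _)
      (PresheafOfModules.toPresheaf_map_sheafificationHomEquiv_def _ (𝟙 (omega f))).symm)
    rfl
  refine ⟨e.symm (huniv.desc (der' f D)), ?_, fun α hα => ?_⟩
  · ext U s
    have h1 := key (e.symm (huniv.desc (der' f D)))
    rw [Equiv.apply_symm_apply] at h1
    have h2 := PresheafOfModules.Derivation.congr_d (huniv.fac (der' f D)) (X := U) s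
    exact ((congrArg (fun t => ((DifferentialsConstruction.derivation' (baseIncl f)).postcomp t).d (X := U) s) h1).symm.trans h2)
  · apply e.injective
    rw [Equiv.apply_symm_apply]
    refine huniv.postcomp_injective _ _ ?_
    rw [huniv.fac, key]
    ext U s
    exact PresheafOfModules.Derivation.congr_d hα (X := U) s

theorem exists_isUniversal :
    ∃ (Ω : X.Modules) (D : OmegaSh.Der f Ω), OmegaSh.IsUniversal D :=
  ⟨omega f, d f, isUniversal f⟩

end Groth.Agent.OmegaGen18
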